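import Cfsg.Agent.RankThreeTwo.Base
set_option linter.all false

/-! # 2-rank at least 3: `PSL` and `PSp` in characteristic two -/

set_option autoImplicit false
set_option linter.unusedSectionVars false

namespace Cfsg.Agent.RankThreeTwo.Lin

open Cfsg Cfsg.Agent.RankThreeTwo.Base Matrix

variable {F : Type*} [Field F] [Fintype F]

/-- the transvections with centre the first basis vector -/
def tv {n : ℕ} (u w : Fin n → F) (h : w ⬝ᵥ u = 0) : Matrix.SpecialLinearGroup (Fin n) F :=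
  ⟨1 + vecMulVec u w, by
    rw [vecMulVec_eq Unit, det_one_add_replicateCol_mul_replicateRow, h, add_zero]⟩

theorem coe_tv {n : ℕ} (u w : Fin n → F) (h : w ⬝ᵥ u = 0) :
    ((tv u w h : Matrix.SpecialLinearGroup (Fin n) F) : Matrix (Fin n) (Fin n) F) = 1 + vecMulVec u w := rfl

theorem tv_mul {n : ℕ} (u w w' : Fin n → F) (h : w ⬝ᵥ u = 0) (h' : w' ⬝ᵥ u = 0) (h2 : (w + w') ⬝ᵥ u = 0) :
    tv u (w + w') h2 = tv u w h * tv u w' h' := by
  apply Subtype.ext
  rw [Matrix.SpecialLinearGroup.coe_mul, coe_tv, coe_tv, coe_tv, mul_add, mul_one, add_mul, one_mul,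
    vecMulVec_mul_vecMulVec, h, zero_smul, vecMulVec_zero, vecMulVec_add]
  abel

theorem pslAux [CharP F 2] (n : ℕ) (hc : 2 ^ 3 ≤ Fintype.card F ^ n) :
    PRankAtLeast 2 3 (Matrix.ProjectiveSpecialLinearGroup (Fin (n + 1)) F) := by
  classical
  let u : Fin (n + 1) → F := Pi.single 0 1
  have hu : ∀ v : Fin n → F, (Fin.cons 0 v : Fin (n + 1) → F) ⬝ᵥ u = 0 := fun v => by
    simp [u]
  refine of_quot (V := Fin n → F) (fun v => funext fun i => add_self _) ?_ _
    (fun v => tv u (Fin.cons 0 v) (hu v)) (fun v w => ?_) fun v hv => ?_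
  · rw [Nat.card_eq_fintype_card, Fintype.card_fun, Fintype.card_fin]
    exact hc
  · rw [← tv_mul _ _ _ _ _ (by rw [add_dotProduct, hu, hu, add_zero])]
    congr 1
    funext i
    refine Fin.cases ?_ (fun j => ?_) i
    · simp
    · simp
  · rw [Matrix.SpecialLinearGroup.mem_center_iff] at hv
    obtain ⟨r, -, hr⟩ := hv
    funext j
    have h1 := congrFun (congrFun hr 0) j.succ
    rw [coe_tv, Matrix.add_apply, vecMulVec_apply, scalar_apply, diagonal_apply_ne _ (Fin.succ_ne_zero j).symm,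
      one_apply_ne (Fin.succ_ne_zero j).symm] at h1
    simpa [u] using h1.symm

/-- **PSL.** -/
theorem psl [CharP F 2] {n : ℕ} (hn : 2 ≤ n) (h2 : n = 2 → 8 ≤ Fintype.card F) (h3 : n = 3 → 4 ≤ Fintype.card F) :
    PRankAtLeast 2 3 (Matrix.ProjectiveSpecialLinearGroup (Fin n) F) := by
  obtain ⟨m, rfl⟩ : ∃ m, n = m + 1 := ⟨n - 1, by omega⟩
  apply pslAux
  have hF : 2 ≤ Fintype.card F := Fintype.one_lt_card
  rcases Nat.lt_or_ge m 2 with h | h
  · have : m = 1 := by omega
    subst this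
    rw [pow_one]
    exact h2 rfl
  rcases Nat.lt_or_ge m 3 with h' | h'
  · have : m = 2 := by omega
    subst this
    calc 2 ^ 3 ≤ 4 ^ 2 := by norm_num
      _ ≤ _ := Nat.pow_le_pow_left (h3 rfl) 2
  · calc 2 ^ 3 ≤ 2 ^ m := Nat.pow_le_pow_right (by norm_num) h'
      _ ≤ _ := Nat.pow_le_pow_left hF m

/-- `[1 D; 0 1]`, `D` diagonal -/
def sy {m : ℕ} (v : Fin m → F) : Matrix.symplecticGroup (Fin m) F :=
  ⟨fromBlocks 1 (diagonal v) 0 1, by
    rw [SymplecticGroup.mem_iff, J, fromBlocks_transpose, fromBlocks_multiply, fromBlocks_multiply]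
    simp⟩

/-- **PSp.** -/
theorem psp [CharP F 2] {m : ℕ} (hm : 2 ≤ m) (h2 : m = 2 → 4 ≤ Fintype.card F) : PRankAtLeast 2 3 (PSp m F) := by
  refine of_quot (V := Fin m → F) (fun v => funext fun i => add_self _) ?_ _ sy (fun v w => ?_) fun v hv => ?_
  · rw [Nat.card_eq_fintype_card, Fintype.card_fun, Fintype.card_fin]
    have hF : 2 ≤ Fintype.card F := Fintype.one_lt_card
    rcases Nat.lt_or_ge m 3 with h' | h'
    · have : m = 2 := by omega
      subst this
      calc 2 ^ 3 ≤ 4 ^ 2 := by norm_num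
        _ ≤ _ := Nat.pow_le_pow_left (h2 rfl) 2
    · calc 2 ^ 3 ≤ 2 ^ m := Nat.pow_le_pow_right (by norm_num) h'
        _ ≤ _ := Nat.pow_le_pow_left hF m
  · apply Subtype.ext
    change fromBlocks 1 (diagonal (v + w)) 0 1 = fromBlocks 1 (diagonal v) 0 1 * fromBlocks 1 (diagonal w) 0 1
    rw [fromBlocks_multiply]
    simp only [one_mul, mul_one, mul_zero, add_zero, zero_mul, zero_add, fromBlocks_inj, true_and, and_true]
    rw [add_comm (diagonal w), diagonal_add]
    rfl
  · have h1 := Subgroup.mem_center_iff.1 hv (SymplecticGroup.symJ (Fin m) F)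
    have h2 : (J (Fin m) F) * fromBlocks 1 (diagonal v) 0 1 = fromBlocks 1 (diagonal v) 0 1 * J (Fin m) F :=
      congrArg Subtype.val h1
    rw [J, fromBlocks_multiply, fromBlocks_multiply, fromBlocks_inj] at h2
    have h3 := h2.1
    simp only [zero_mul, mul_zero, add_zero, mul_one, zero_add] at h3
    funext i
    have h4 := congrFun (congrFun h3 i) i
    simpa using h4.symm

end Cfsg.Agent.RankThreeTwo.Lin
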